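import Mathlib
set_option linter.all false

set_option autoImplicit false

namespace Cfsg.Agent.SporadicRecognition.TransvectionCentralizer

open Matrix

/-- An abstract criterion: if the centraliser `C` of `z` contains a 2-subgroup `U` with `z ∈ U`
whose centraliser in `C` is contained in `{1, z}`, then a Sylow 2-subgroup of `C` is a Sylow
2-subgroup of the whole group. -/
theorem sylow_of_centralizer_le {G : Type*} [Group G] [Finite G] (z : G) (C : Subgroup G)
    (hC : C = Subgroup.centralizer ({z} : Set G))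
    (U : Subgroup C) (hU : IsPGroup 2 U)
    (hzU : ∃ u ∈ U, (u : G) = z)
    (hcent : ∀ x : C, (∀ u ∈ U, u * x = x * u) →
      (x : G) = 1 ∨ (x : G) = z)
    (T : Sylow 2 C) :
    ¬ 2 ∣ ((T : Subgroup C).map (Subgroup.subtype C)).index := by
  classical
  have : Fact (Nat.Prime 2) := ⟨Nat.prime_two⟩
  -- a Sylow subgroup T1 of C containing U
  obtain ⟨T1, hT1⟩ := hU.exists_le_sylow
  obtain ⟨c, hc⟩ := MulAction.exists_smul_eq C T1 T
  -- c • T1 = T
  have hcT : ∀ u ∈ U, c * u * c⁻¹ ∈ (T : Subgroup C) := by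
    intro u hu
    rw [← hc, Sylow.smul_def, Sylow.pointwise_smul_def]
    refine (Subgroup.mem_pointwise_smul_iff_inv_smul_mem).2 ?_
    have : (MulAut.conj c)⁻¹ • (c * u * c⁻¹) = u := by
      simp [MulAut.smul_def]
      group
    rw [this]
    exact hT1 hu
  set TG := (T : Subgroup C).map C.subtype with hTG
  have hTGp : IsPGroup 2 TG := T.isPGroup'.map _
  obtain ⟨S, hS⟩ := hTGp.exists_le_sylow
  -- z ∈ S
  have hzTG : z ∈ TG := by
    obtain ⟨u, hu, hz⟩ := hzU
    refine ⟨c * u * c⁻¹, hcT u hu, ?_⟩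
    have h1 := (Subgroup.mem_centralizer_singleton_iff.1 (hC.le c.2))
    simp only [Subgroup.coe_subtype, Subgroup.coe_mul, Subgroup.coe_inv, hz]
    rw [h1]; group
  -- S ≤ C
  have hSC : (S : Subgroup G) ≤ C := by
    by_cases hz1 : z = 1
    · intro x _
      rw [hC, Subgroup.mem_centralizer_singleton_iff, hz1]; simp
    have : Nontrivial (S : Subgroup G) := by
      refine ⟨⟨⟨z, hS hzTG⟩, 1, ?_⟩⟩
      intro h
      exact hz1 (by simpa using congrArg Subtype.val h)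
    have hn := S.isPGroup'.center_nontrivial
    obtain ⟨⟨x, hx⟩, hx1⟩ := exists_ne (1 : Subgroup.center (S : Subgroup G))
    rw [Subgroup.mem_center_iff] at hx
    have hxG : ∀ y ∈ (S : Subgroup G), y * (x : G) = x * y := by
      intro y hy
      simpa using congrArg Subtype.val (hx ⟨y, hy⟩)
    have hx1' : (x : G) ≠ 1 := by
      intro h
      apply hx1
      ext
      simpa using h
    have hxC : (x : G) ∈ C := by
      rw [hC, Subgroup.mem_centralizer_singleton_iff]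
      exact (hxG z (hS hzTG)).symm
    -- conjugate back
    have key := hcent (c⁻¹ * ⟨x, hxC⟩ * c) (by
      intro u hu
      have h2 := hcT u hu
      have h3 : ((c * u * c⁻¹ : C) : G) ∈ (S : Subgroup G) := hS ⟨_, h2, rfl⟩
      have h4 := hxG _ h3
      have h5 : (c * u * c⁻¹ : C) * ⟨x, hxC⟩ = ⟨x, hxC⟩ * (c * u * c⁻¹) := by
        ext; simpa using h4
      calc u * (c⁻¹ * ⟨x, hxC⟩ * c) = c⁻¹ * ((c * u * c⁻¹ : C) * ⟨x, hxC⟩) * c := by group
        _ = c⁻¹ * (⟨x, hxC⟩ * (c * u * c⁻¹)) * c := by rw [h5]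
        _ = (c⁻¹ * ⟨x, hxC⟩ * c) * u := by group)
    have hxz : (x : G) = z := by
      have h1 := (Subgroup.mem_centralizer_singleton_iff.1 (hC.le c.2))
      rcases key with h | h
      · exfalso
        apply hx1'
        have : ((c : G)⁻¹ * x * c) = 1 := by simpa using h
        have h6 : (x : G) = c * ((c : G)⁻¹ * x * c) * (c : G)⁻¹ := by group
        rw [h6, this]; group
      · have : ((c : G)⁻¹ * x * c) = z := by simpa using h
        have h6 : (x : G) = c * ((c : G)⁻¹ * x * c) * (c : G)⁻¹ := by group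
        rw [h6, this, h1]; group
    intro y hy
    rw [hC, Subgroup.mem_centralizer_singleton_iff]
    rw [← hxz]
    exact hxG y hy
  have hSeq : TG = (S : Subgroup G) := by
    have h1 : IsPGroup 2 ((S : Subgroup G).subgroupOf C) :=
      S.isPGroup'.comap_of_injective _ (Subgroup.subtype_injective C)
    have h2 : (T : Subgroup C) ≤ (S : Subgroup G).subgroupOf C := by
      intro t ht
      exact hS ⟨t, ht, rfl⟩
    have h3 := T.is_maximal' h1 h2
    rw [hTG, ← h3]
    exact Subgroup.map_subgroupOf_eq_of_le hSC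
  rw [hSeq]
  exact S.not_dvd_index

/-- The set of matrices `1 + (row 0) + (column 1)` in `SL(5,2)`; this is `O₂` of the centraliser of
the transvection `1 + E₀₁`. -/
def IsQ (M : Matrix (Fin 5) (Fin 5) (ZMod 2)) : Prop :=
  ∀ i j : Fin 5, ¬ (i = 0 ∧ j ≠ 0) → ¬ (j = 1 ∧ i ≠ 1) → M i j = if i = j then 1 else 0

theorem isQ_iff (M : Matrix (Fin 5) (Fin 5) (ZMod 2)) :
    IsQ M ↔ ∃ a₂ a₃ a₄ b₂ b₃ b₄ c : ZMod 2,
      M = !![1, c, a₂, a₃, a₄; 0, 1, 0, 0, 0; 0, b₂, 1, 0, 0; 0, b₃, 0, 1, 0; 0, b₄, 0, 0, 1] := by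
  constructor
  · intro h
    refine ⟨M 0 2, M 0 3, M 0 4, M 2 1, M 3 1, M 4 1, M 0 1, ?_⟩
    ext i j
    fin_cases i <;> fin_cases j <;> first | rfl | (exact h _ _ (by decide) (by decide))
  · rintro ⟨a₂, a₃, a₄, b₂, b₃, b₄, c, rfl⟩
    intro i j h1 h2
    fin_cases i <;> fin_cases j <;> first | rfl | (exact absurd h1 (by decide)) | (exact absurd h2 (by decide))

theorem isQ_mul {M N : Matrix (Fin 5) (Fin 5) (ZMod 2)} (hM : IsQ M) (hN : IsQ N) :
    IsQ (M * N) := by
  rw [isQ_iff] at *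
  obtain ⟨a₂, a₃, a₄, b₂, b₃, b₄, c, rfl⟩ := hM
  obtain ⟨a₂', a₃', a₄', b₂', b₃', b₄', c', rfl⟩ := hN
  refine ⟨a₂ + a₂', a₃ + a₃', a₄ + a₄', b₂ + b₂', b₃ + b₃', b₄ + b₄',
    c' + c + a₂ * b₂' + a₃ * b₃' + a₄ * b₄', ?_⟩
  ext i j
  fin_cases i <;> fin_cases j <;> simp [Matrix.mul_apply, Fin.sum_univ_five] <;> ring

theorem isQ_one : IsQ (1 : Matrix (Fin 5) (Fin 5) (ZMod 2)) := by
  intro i j _ _
  simp [Matrix.one_apply]

theorem isQ_pow_four {M : Matrix (Fin 5) (Fin 5) (ZMod 2)} (hM : IsQ M) : M ^ 4 = 1 := by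
  rw [isQ_iff] at hM
  obtain ⟨a₂, a₃, a₄, b₂, b₃, b₄, c, rfl⟩ := hM
  have h2 : ∀ x : ZMod 2, x + x = 0 := by decide
  have e1 : (!![1, c, a₂, a₃, a₄; 0, 1, 0, 0, 0; 0, b₂, 1, 0, 0; 0, b₃, 0, 1, 0; 0, b₄, 0, 0, 1] : Matrix (Fin 5) (Fin 5) (ZMod 2)) *
      !![1, c, a₂, a₃, a₄; 0, 1, 0, 0, 0; 0, b₂, 1, 0, 0; 0, b₃, 0, 1, 0; 0, b₄, 0, 0, 1] =
      !![1, a₂ * b₂ + a₃ * b₃ + a₄ * b₄, 0, 0, 0; 0, 1, 0, 0, 0; 0, 0, 1, 0, 0; 0, 0, 0, 1, 0; 0, 0, 0, 0, 1] := by
    ext i j
    fin_cases i <;> fin_cases j <;> simp [Matrix.mul_apply, Fin.sum_univ_five, h2]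
  have e2 : ∀ d : ZMod 2, (!![1, d, 0, 0, 0; 0, 1, 0, 0, 0; 0, 0, 1, 0, 0; 0, 0, 0, 1, 0; 0, 0, 0, 0, 1] : Matrix (Fin 5) (Fin 5) (ZMod 2)) *
      !![1, d, 0, 0, 0; 0, 1, 0, 0, 0; 0, 0, 1, 0, 0; 0, 0, 0, 1, 0; 0, 0, 0, 0, 1] = 1 := by
    intro d
    ext i j
    fin_cases i <;> fin_cases j <;> simp [Matrix.mul_apply, Fin.sum_univ_five, h2]
  have : ∀ X : Matrix (Fin 5) (Fin 5) (ZMod 2), X ^ 4 = (X * X) * (X * X) := by
    intro X; rw [show (4 : ℕ) = 2 + 2 from rfl, pow_add, pow_two]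
  rw [this, e1, e2]

/-- The group `Q = O₂(C(s))` in `SL(5,2)`. -/
def Qgrp : Subgroup (SpecialLinearGroup (Fin 5) (ZMod 2)) where
  carrier := {g | IsQ (g : Matrix (Fin 5) (Fin 5) (ZMod 2))}
  mul_mem' := by
    intro a b ha hb
    exact isQ_mul ha hb
  one_mem' := isQ_one
  inv_mem' := by
    intro a ha
    have h4 : a ^ 4 = 1 := by
      exact Subtype.ext (isQ_pow_four ha)
    have h5 : a⁻¹ = a ^ 3 := by
      rw [inv_eq_iff_mul_eq_one, ← pow_succ']; exact h4
    have h6 : a ^ 3 = a * a * a := by rw [pow_succ, pow_two]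
    rw [h5, h6]
    exact isQ_mul (isQ_mul ha ha) ha

theorem mem_Qgrp {g : SpecialLinearGroup (Fin 5) (ZMod 2)} :
    g ∈ Qgrp ↔ IsQ (g : Matrix (Fin 5) (Fin 5) (ZMod 2)) := Iff.rfl

theorem Qgrp_pow_four {g : SpecialLinearGroup (Fin 5) (ZMod 2)} (hg : g ∈ Qgrp) : g ^ 4 = 1 := by
  exact Subtype.ext (isQ_pow_four hg)

/-- transvection 0 j 1 for `j ≠ 0`, as an element of SL. -/
theorem transvection_isQ_row (j : Fin 5) (hj : j ≠ 0) :
    IsQ (transvection 0 j (1 : ZMod 2)) := by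
  intro i k h1 h2
  have : ¬ (0 = i ∧ j = k) := by
    rintro ⟨rfl, rfl⟩; exact h1 ⟨rfl, hj⟩
  simp [transvection, Matrix.one_apply, Matrix.single, this]

theorem transvection_isQ_col (j : Fin 5) (hj : j ≠ 1) :
    IsQ (transvection j 1 (1 : ZMod 2)) := by
  intro i k h1 h2
  have : ¬ (j = i ∧ 1 = k) := by
    rintro ⟨rfl, rfl⟩; exact h2 ⟨rfl, hj⟩
  simp [transvection, Matrix.one_apply, Matrix.single, this]

/-- A matrix commuting with all of `Q` is scalar plus a multiple of `E₀₁`. -/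
theorem eq_of_commute {M : Matrix (Fin 5) (Fin 5) (ZMod 2)}
    (h : ∀ N : Matrix (Fin 5) (Fin 5) (ZMod 2), IsQ N → N * M = M * N) :
    ∃ x y : ZMod 2, M = !![x, y, 0, 0, 0; 0, x, 0, 0, 0; 0, 0, x, 0, 0; 0, 0, 0, x, 0; 0, 0, 0, 0, x] := by
  have h02 := h _ (transvection_isQ_row 2 (by decide))
  have h03 := h _ (transvection_isQ_row 3 (by decide))
  have h04 := h _ (transvection_isQ_row 4 (by decide))
  have h21 := h _ (transvection_isQ_col 2 (by decide))
  have h31 := h _ (transvection_isQ_col 3 (by decide))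
  have h41 := h _ (transvection_isQ_col 4 (by decide))
  simp only [transvection, add_mul, mul_add, one_mul, mul_one, add_right_inj] at h02 h03 h04 h21 h31 h41
  refine ⟨M 0 0, M 0 1, ?_⟩
  have e1 : ∀ (i j k l : Fin 5), Matrix.single i j (1 : ZMod 2) * M = M * Matrix.single i j 1 →
      (if i = k then M j l else 0) = (if j = l then M k i else 0) := by
    intro i j k l h
    have := congrFun (congrFun h k) l
    simp only [Matrix.mul_apply, Matrix.single, Matrix.of_apply, ite_mul, mul_ite, one_mul, mul_one,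
      zero_mul, mul_zero] at this
    have h3 : (∑ x, if i = k ∧ j = x then M x l else 0) = (if i = k then M j l else 0) := by
      by_cases hik : i = k
      · simp [hik]
      · simp [hik]
    have h4 : (∑ x, if i = x ∧ j = l then M k x else 0) = (if j = l then M k i else 0) := by
      by_cases hik : j = l
      · simp [hik]
      · simp [hik]
    rw [h3, h4] at this
    exact this
  have r2 : ∀ l, M 2 l = if 2 = l then M 0 0 else 0 := fun l => by simpa using e1 0 2 0 l h02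
  have r3 : ∀ l, M 3 l = if 3 = l then M 0 0 else 0 := fun l => by simpa using e1 0 3 0 l h03
  have r4 : ∀ l, M 4 l = if 4 = l then M 0 0 else 0 := fun l => by simpa using e1 0 4 0 l h04
  have r1 : ∀ l, M 1 l = if 1 = l then M 2 2 else 0 := fun l => by simpa using e1 2 1 2 l h21
  have c2 : M 0 2 = 0 := by simpa using (e1 2 1 0 1 h21).symm
  have c3 : M 0 3 = 0 := by simpa using (e1 3 1 0 1 h31).symm
  have c4 : M 0 4 = 0 := by simpa using (e1 4 1 0 1 h41).symm
  have r1' : ∀ l, M 1 l = if 1 = l then M 0 0 else 0 := fun l => by rw [r1 l, r2 2]; simp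
  ext k l
  fin_cases k
  · fin_cases l
    · rfl
    · rfl
    · exact c2
    · exact c3
    · exact c4
  · exact (r1' l).trans (by fin_cases l <;> rfl)
  · exact (r2 l).trans (by fin_cases l <;> rfl)
  · exact (r3 l).trans (by fin_cases l <;> rfl)
  · exact (r4 l).trans (by fin_cases l <;> rfl)

theorem transvection_eq : transvection 0 1 (1 : ZMod 2) =
    (!![1, 1, 0, 0, 0; 0, 1, 0, 0, 0; 0, 0, 1, 0, 0; 0, 0, 0, 1, 0; 0, 0, 0, 0, 1] :
      Matrix (Fin 5) (Fin 5) (ZMod 2)) := by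
  ext i j
  fin_cases i <;> fin_cases j <;> simp [transvection, Matrix.single]

/-- An element of `SL(5,2)` commuting with all of `Q` is `1` or the transvection. -/
theorem eq_one_or_eq_of_commute {s x : SpecialLinearGroup (Fin 5) (ZMod 2)}
    (hs : (s : Matrix (Fin 5) (Fin 5) (ZMod 2)) = transvection 0 1 1)
    (h : ∀ y ∈ Qgrp, y * x = x * y) : x = 1 ∨ x = s := by
  obtain ⟨a, b, hx⟩ := eq_of_commute (M := (x : Matrix (Fin 5) (Fin 5) (ZMod 2))) (by
    intro N hN
    have hdet : N.det = 1 := by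
      have h4 := isQ_pow_four hN
      have h5 : N.det ^ 4 = 1 := by rw [← Matrix.det_pow, h4, Matrix.det_one]
      generalize N.det = d at h5
      revert d; decide
    exact congrArg Subtype.val (h ⟨N, hdet⟩ hN))
  have ha : a = 1 := by
    have h1 : (x : Matrix (Fin 5) (Fin 5) (ZMod 2)).det = 1 := x.2
    rw [hx] at h1
    by_cases ha : a = 0
    · exfalso
      subst ha
      rw [Matrix.det_eq_zero_of_row_eq_zero (1 : Fin 5)] at h1
      · exact absurd h1 (by decide)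
      · intro j; fin_cases j <;> rfl
    · exact (by decide : ∀ a : ZMod 2, a ≠ 0 → a = 1) a ha
  subst ha
  have hb : b = 0 ∨ b = 1 := (by decide : ∀ b : ZMod 2, b = 0 ∨ b = 1) b
  rcases hb with rfl | rfl
  · left
    apply Subtype.ext
    show (x : Matrix (Fin 5) (Fin 5) (ZMod 2)) = 1
    rw [hx]
    ext i j
    fin_cases i <;> fin_cases j <;> rfl
  · right
    apply Subtype.ext
    show (x : Matrix (Fin 5) (Fin 5) (ZMod 2)) = (s : Matrix (Fin 5) (Fin 5) (ZMod 2))
    rw [hx, hs, transvection_eq]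

theorem s_mem_Qgrp {s : SpecialLinearGroup (Fin 5) (ZMod 2)}
    (hs : (s : Matrix (Fin 5) (Fin 5) (ZMod 2)) = transvection 0 1 1) : s ∈ Qgrp := by
  rw [mem_Qgrp, hs]
  exact transvection_isQ_row 1 (by decide)

theorem Qgrp_le_centralizer {s : SpecialLinearGroup (Fin 5) (ZMod 2)}
    (hs : (s : Matrix (Fin 5) (Fin 5) (ZMod 2)) = transvection 0 1 1) :
    Qgrp ≤ Subgroup.centralizer ({s} : Set (SpecialLinearGroup (Fin 5) (ZMod 2))) := by
  intro g hg
  rw [Subgroup.mem_centralizer_singleton_iff]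
  apply Subtype.ext
  show (g : Matrix (Fin 5) (Fin 5) (ZMod 2)) * (s : Matrix (Fin 5) (Fin 5) (ZMod 2)) =
    (s : Matrix (Fin 5) (Fin 5) (ZMod 2)) * (g : Matrix (Fin 5) (Fin 5) (ZMod 2))
  rw [mem_Qgrp, isQ_iff] at hg
  obtain ⟨a₂, a₃, a₄, b₂, b₃, b₄, c, hg⟩ := hg
  rw [hg, hs, transvection_eq]
  ext i j
  fin_cases i <;> fin_cases j <;> simp [Matrix.mul_apply, Fin.sum_univ_five, add_comm]

theorem s_ne_one {s : SpecialLinearGroup (Fin 5) (ZMod 2)}
    (hs : (s : Matrix (Fin 5) (Fin 5) (ZMod 2)) = transvection 0 1 1) : s ≠ 1 := by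
  intro h
  have : (s : Matrix (Fin 5) (Fin 5) (ZMod 2)) 0 1 = 1 := by
    rw [hs, transvection_eq]; rfl
  rw [h] at this
  exact absurd this (by decide)

/-- The isomorphism of centralisers sends `z` to `s`. -/
theorem map_z {G : Type*} [Group G] {s : SpecialLinearGroup (Fin 5) (ZMod 2)}
    (hs : (s : Matrix (Fin 5) (Fin 5) (ZMod 2)) = transvection 0 1 1) (z : G)
    (hz : orderOf z = 2) (e : (Subgroup.centralizer ({z} : Set G)) ≃*
      Subgroup.centralizer ({s} : Set (SpecialLinearGroup (Fin 5) (ZMod 2))))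
    (hzC : z ∈ Subgroup.centralizer ({z} : Set G)) :
    ((e ⟨z, hzC⟩ : Subgroup.centralizer ({s} : Set (SpecialLinearGroup (Fin 5) (ZMod 2)))) :
      SpecialLinearGroup (Fin 5) (ZMod 2)) = s := by
  rcases eq_one_or_eq_of_commute (x := ((e ⟨z, hzC⟩ : _) :
      SpecialLinearGroup (Fin 5) (ZMod 2))) hs (by
    intro y hy
    have hy' := Qgrp_le_centralizer hs hy
    have h1 : (e.symm ⟨y, hy'⟩) * ⟨z, hzC⟩ = ⟨z, hzC⟩ * (e.symm ⟨y, hy'⟩) := by
      apply Subtype.ext
      have := (e.symm ⟨y, hy'⟩).2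
      rw [Subgroup.mem_centralizer_singleton_iff] at this
      exact this
    have h2 := congrArg e h1
    rw [map_mul, map_mul, MulEquiv.apply_symm_apply] at h2
    exact congrArg Subtype.val h2) with h | h
  · exfalso
    have h1 : e ⟨z, hzC⟩ = 1 := Subtype.ext h
    rw [MulEquiv.map_eq_one_iff] at h1
    have h2 : z = 1 := congrArg Subtype.val h1
    rw [h2, orderOf_one] at hz
    exact absurd hz (by decide)
  · exact h

end Cfsg.Agent.SporadicRecognition.TransvectionCentralizer
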