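import Mathlib
import Cfsg.Agent.Lib.F2Mat
import Cfsg.Agent.SporadicRecognition.TransvectionCentralizer
set_option linter.all false

-- part: SporadicRecognition/HeldModel
section
/-!
# The model of the centraliser of a transvection of `SL(5, 2)`

`L5 = SL(5, 2)`; indices are `0, …, 4`; `x i j = 1 + E_ij`; `zz = x 0 4`; `CC = C_{L5}(zz)`.
Every element `g` of `L5` has a code `cd g < 2 ^ 25` (bit `5 * i + j` is the entry `(i, j)`), and
`cd (g * h) = mul 5 (cd g) (cd h)`.

Pattern subgroups: `T0` unitriangular, `V1` rows `{0,1}` × columns `{2,3,4}`,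
`V2` rows `{0,1,2}` × columns `{3,4}`, `QQ` row `0` and column `4`, `R1` row `0`, `R2` column `4`.
-/

set_option autoImplicit false

namespace Cfsg.Agent.SporadicRecognition.HeldModel

open Matrix Cfsg.Agent.Lib.F2Mat

abbrev L5 := SpecialLinearGroup (Fin 5) (ZMod 2)

theorem zmod2_cases (a : ZMod 2) : a = 0 ∨ a = 1 := by
  revert a; decide

/-- entries as Booleans -/
def ent (g : L5) (i j : Fin 5) : Bool := decide ((g : Matrix (Fin 5) (Fin 5) (ZMod 2)) i j = 1)

theorem bz_ent (g : L5) (i j : Fin 5) :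
    bz (ent g i j) = (g : Matrix (Fin 5) (Fin 5) (ZMod 2)) i j := by
  unfold ent
  rcases zmod2_cases ((g : Matrix (Fin 5) (Fin 5) (ZMod 2)) i j) with h | h
  · rw [h]; rfl
  · rw [h]; rfl

theorem ent_iff (g : L5) (i j : Fin 5) :
    ent g i j = true ↔ (g : Matrix (Fin 5) (Fin 5) (ZMod 2)) i j = 1 := by
  unfold ent; simp

/-- entry with natural number indices -/
def entN (g : L5) (i j : ℕ) : Bool :=
  if h : i < 5 ∧ j < 5 then ent g ⟨i, h.1⟩ ⟨j, h.2⟩ else false

/-- The code of a matrix: bit `5 * i + j` is the entry `(i, j)`. -/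
def cd (g : L5) : ℕ := blk 1 (fun p => (entN g (p / 5) (p % 5)).toNat) 25

theorem toNat_lt (b : Bool) : b.toNat < 2 ^ 1 := by cases b <;> decide

theorem cd_lt (g : L5) : cd g < 2 ^ (5 * 5) := by
  have := blk_lt (n := 1) (a := fun p => (entN g (p / 5) (p % 5)).toNat) 25
    (fun i _ => toNat_lt _)
  simpa [cd] using this

theorem testBit_cd (g : L5) (i j : Fin 5) : (cd g).testBit (5 * i + j) = ent g i j := by
  have h := testBit_blk (n := 1) (a := fun p => (entN g (p / 5) (p % 5)).toNat) 25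
    (fun i _ => toNat_lt _) (i := 5 * (i : ℕ) + j) (j := 0) (by omega) (by omega)
  have h1 : 1 * (5 * (i : ℕ) + j) + 0 = 5 * i + j := by ring
  rw [h1] at h
  rw [cd, h]
  have h2 : (5 * (i : ℕ) + j) / 5 = i := by omega
  have h3 : (5 * (i : ℕ) + j) % 5 = j := by omega
  simp only [h2, h3, entN, i.2, j.2, and_self, dite_true, Fin.eta]
  cases ent g i j <;> rfl

theorem toMat_cd (g : L5) : toMat 5 (cd g) = (g : Matrix (Fin 5) (Fin 5) (ZMod 2)) := by
  ext i j
  rw [toMat_apply, testBit_cd, bz_ent]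

theorem cd_inj {g h : L5} (e : cd g = cd h) : g = h := by
  apply Subtype.ext
  rw [← toMat_cd, ← toMat_cd, e]

theorem cd_eq_of_toMat {g : L5} {A : ℕ} (hA : A < 2 ^ (5 * 5))
    (h : toMat 5 A = (g : Matrix (Fin 5) (Fin 5) (ZMod 2))) : cd g = A :=
  toMat_inj (cd_lt g) hA (by rw [toMat_cd, h])

theorem cd_mul (g h : L5) : cd (g * h) = mul 5 (cd g) (cd h) :=
  cd_eq_of_toMat (mul_lt (by norm_num) _ _) (by
    rw [toMat_mul, toMat_cd, toMat_cd]; rfl)

theorem cd_one : cd 1 = one 5 :=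
  cd_eq_of_toMat one_lt' (by rw [toMat_one]; rfl)

/-- the element with a given code; `B` is the code of the inverse. -/
def mk (A B : ℕ) (h : Nat.beq (mul 5 A B) (one 5) = true) : L5 :=
  ⟨toMat 5 A, by
    have h1 : toMat 5 A * toMat 5 B = 1 := by
      rw [← toMat_mul, Nat.eq_of_beq_eq_true h, toMat_one]
    have h2 : (toMat 5 A).det * (toMat 5 B).det = 1 := by
      rw [← det_mul, h1, det_one]
    rcases zmod2_cases (toMat 5 A).det with h3 | h3
    · rw [h3, zero_mul] at h2; exact absurd h2 (by decide)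
    · exact h3⟩

theorem cd_mk {A B : ℕ} (h : Nat.beq (mul 5 A B) (one 5) = true) (hA : Nat.blt A 33554432 = true) :
    cd (mk A B h) = A :=
  cd_eq_of_toMat (by simpa [Nat.blt_eq] using hA) rfl

/-- the elementary transvection `1 + E_ij` -/
def x (i j : Fin 5) (h : i ≠ j := by decide) : L5 := ⟨transvection i j 1, det_transvection_of_ne i j h 1⟩

theorem coe_x (i j : Fin 5) (h : i ≠ j) :
    ((x i j h : L5) : Matrix (Fin 5) (Fin 5) (ZMod 2)) = transvection i j 1 := rfl

theorem transvection_apply' (i j k l : Fin 5) : (transvection i j (1 : ZMod 2)) k l =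
    (if k = l then 1 else 0) + (if i = k ∧ j = l then 1 else 0) := by
  rw [transvection, Matrix.add_apply, Matrix.one_apply, Matrix.single_apply]

theorem cd_x (i j : Fin 5) (h : i ≠ j) : cd (x i j h) = one 5 + 2 ^ (5 * (i : ℕ) + j) := by
  refine cd_eq_of_toMat ?_ ?_
  · revert i j; decide
  · rw [coe_x]
    ext k l
    rw [transvection_apply', toMat_apply]
    revert i j k l; decide +kernel

/-- the involution whose centraliser is the model. -/
def zz : L5 := x 0 4

/-- the model -/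
def CC : Subgroup L5 := Subgroup.centralizer {zz}

theorem mem_CC {g : L5} : g ∈ CC ↔ g * zz = zz * g := by
  unfold CC; rw [Subgroup.mem_centralizer_singleton_iff]

/-- the code of `zz` -/
def zc : ℕ := 17043537

theorem cd_zz : cd zz = zc := by
  unfold zz; rw [cd_x]; decide +kernel

/-- Boolean test for membership in `CC` -/
def inCC (A : ℕ) : Bool := Nat.beq (mul 5 A zc) (mul 5 zc A)

theorem mem_CC_iff {g : L5} : g ∈ CC ↔ inCC (cd g) = true := by
  rw [mem_CC, inCC]
  constructor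
  · intro h
    have := congrArg cd h
    rw [cd_mul, cd_mul, cd_zz] at this
    rw [this]; exact Nat.beq_refl _
  · intro h
    apply cd_inj
    rw [cd_mul, cd_mul, cd_zz]
    exact Nat.eq_of_beq_eq_true h

/-! ### Pattern subgroups -/

/-- `g - 1` is supported on `P` -/
def Pat (P : Fin 5 → Fin 5 → Bool) (g : L5) : Prop :=
  ∀ i j, P i j = false → ((g : Matrix (Fin 5) (Fin 5) (ZMod 2)) - 1) i j = 0

/-- transitivity of a pattern -/
def Tr (P : Fin 5 → Fin 5 → Bool) : Prop := ∀ i j k, P i j = true → P j k = true → P i k = true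

instance (P : Fin 5 → Fin 5 → Bool) : Decidable (Tr P) := by unfold Tr; infer_instance

theorem Pat.mul {P : Fin 5 → Fin 5 → Bool} (hP : Tr P) {g h : L5} (hg : Pat P g) (hh : Pat P h) :
    Pat P (g * h) := by
  intro i j hij
  have e : ((g * h : L5) : Matrix (Fin 5) (Fin 5) (ZMod 2)) - 1 =
      ((g : Matrix (Fin 5) (Fin 5) (ZMod 2)) - 1) + ((h : Matrix (Fin 5) (Fin 5) (ZMod 2)) - 1) +
      ((g : Matrix (Fin 5) (Fin 5) (ZMod 2)) - 1) * ((h : Matrix (Fin 5) (Fin 5) (ZMod 2)) - 1) := by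
    have e0 : ((g * h : L5) : Matrix (Fin 5) (Fin 5) (ZMod 2)) =
        (g : Matrix (Fin 5) (Fin 5) (ZMod 2)) * (h : Matrix (Fin 5) (Fin 5) (ZMod 2)) := rfl
    rw [e0]
    noncomm_ring
  rw [e, Matrix.add_apply, Matrix.add_apply, hg i j hij, hh i j hij, Matrix.mul_apply]
  rw [Finset.sum_eq_zero]
  · simp
  · intro k _
    cases h1 : P i k with
    | false => rw [hg i k h1, zero_mul]
    | true =>
      cases h2 : P k j with
      | false => rw [hh k j h2, mul_zero]
      | true => rw [hP i k j h1 h2] at hij; exact absurd hij (by decide)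

theorem Pat.one (P : Fin 5 → Fin 5 → Bool) : Pat P 1 := by
  intro i j _
  simp

/-- the pattern subgroup -/
def pat (P : Fin 5 → Fin 5 → Bool) (hP : Tr P) : Subgroup L5 where
  carrier := {g | Pat P g}
  one_mem' := Pat.one P
  mul_mem' := fun hg hh => hg.mul hP hh
  inv_mem' := by
    intro g hg
    have h1 : ∀ n : ℕ, Pat P (g ^ n) := by
      intro n
      induction n with
      | zero => rw [pow_zero]; exact Pat.one P
      | succ n ih => rw [pow_succ]; exact ih.mul hP hg
    have h2 : g⁻¹ = g ^ (orderOf g - 1) := by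
      rw [inv_eq_iff_mul_eq_one, ← pow_succ', Nat.sub_add_cancel (orderOf_pos g),
        pow_orderOf_eq_one]
    show Pat P g⁻¹
    rw [h2]; exact h1 _

theorem mem_pat {P : Fin 5 → Fin 5 → Bool} (hP : Tr P) {g : L5} : g ∈ pat P hP ↔ Pat P g :=
  Iff.rfl

theorem pat_mono {P P' : Fin 5 → Fin 5 → Bool} (hP : Tr P) (hP' : Tr P')
    (h : ∀ i j, P i j = true → P' i j = true) : pat P hP ≤ pat P' hP' := by
  intro g hg i j hij
  refine hg i j ?_
  cases h1 : P i j with
  | false => rfl
  | true => rw [h i j h1] at hij; exact absurd hij (by decide)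

/-- the mask of the positions outside the pattern -/
def msk' (P : Fin 5 → Fin 5 → Bool) : ℕ :=
  blk 1 (fun p => (if h : p / 5 < 5 ∧ p % 5 < 5 then !(P ⟨p / 5, h.1⟩ ⟨p % 5, h.2⟩)
    else false).toNat) 25

theorem testBit_msk' (P : Fin 5 → Fin 5 → Bool) (i j : Fin 5) :
    (msk' P).testBit (5 * i + j) = !(P i j) := by
  have h := testBit_blk (n := 1)
    (a := fun p => (if h : p / 5 < 5 ∧ p % 5 < 5 then !(P ⟨p / 5, h.1⟩ ⟨p % 5, h.2⟩)
      else false).toNat) 25
    (fun i _ => toNat_lt _) (i := 5 * (i : ℕ) + j) (j := 0) (by omega) (by omega)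
  have h1 : 1 * (5 * (i : ℕ) + j) + 0 = 5 * i + j := by ring
  rw [h1] at h
  rw [msk', h]
  have h2 : (5 * (i : ℕ) + j) / 5 = i := by omega
  have h3 : (5 * (i : ℕ) + j) % 5 = j := by omega
  simp only [h2, h3, i.2, j.2, and_self, dite_true, Fin.eta]
  cases P i j <;> rfl

/-- Boolean test: agreement with the identity outside the pattern; `m` is the mask and
`o = one 5 &&& m`. -/
def inP (m A : ℕ) : Bool := Nat.beq (Nat.land A m) (Nat.land (one 5) m)

theorem Pat_iff_inP {P : Fin 5 → Fin 5 → Bool} {g : L5} : Pat P g ↔ inP (msk' P) (cd g) = true := by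
  have key : ∀ i j : Fin 5, P i j = false →
      ((((g : Matrix (Fin 5) (Fin 5) (ZMod 2)) - 1) i j = 0) ↔
        (cd g).testBit (5 * i + j) = (one 5).testBit (5 * i + j)) := by
    intro i j _
    rw [Matrix.sub_apply, sub_eq_zero, ← toMat_cd, ← toMat_one, toMat_apply, toMat_apply]
    exact ⟨fun h => bz_inj h, fun h => by rw [h]⟩
  constructor
  · intro h
    rw [inP]
    have : Nat.land (cd g) (msk' P) = Nat.land (one 5) (msk' P) := by
      apply Nat.eq_of_testBit_eq
      intro p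
      show ((cd g) &&& (msk' P)).testBit p = ((one 5) &&& (msk' P)).testBit p
      rw [Nat.testBit_and, Nat.testBit_and]
      rcases Nat.lt_or_ge p 25 with hp | hp
      · obtain ⟨i, j, hi, hj, rfl⟩ : ∃ i j, i < 5 ∧ j < 5 ∧ p = 5 * i + j :=
          ⟨p / 5, p % 5, Nat.div_lt_of_lt_mul hp, Nat.mod_lt _ (by norm_num),
            (Nat.div_add_mod p 5).symm⟩
        have h1 := testBit_msk' P ⟨i, hi⟩ ⟨j, hj⟩
        simp only at h1
        rw [h1]
        cases h2 : P ⟨i, hi⟩ ⟨j, hj⟩ with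
        | true => simp
        | false =>
          have h3 := (key ⟨i, hi⟩ ⟨j, hj⟩ h2).1 (h _ _ h2)
          simp only at h3
          rw [h3]
      · have e1 : (cd g).testBit p = false :=
          Nat.testBit_lt_two_pow (lt_of_lt_of_le (cd_lt g)
            (Nat.pow_le_pow_right (by norm_num) hp))
        have e2 : (one 5).testBit p = false :=
          Nat.testBit_lt_two_pow (lt_of_lt_of_le one_lt'
            (Nat.pow_le_pow_right (by norm_num) hp))
        rw [e1, e2]
    rw [this]; exact Nat.beq_refl _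
  · intro h i j hij
    rw [key i j hij]
    have h1 : (cd g) &&& (msk' P) = (one 5) &&& (msk' P) := Nat.eq_of_beq_eq_true h
    have h2 := congrArg (fun n => Nat.testBit n (5 * (i : ℕ) + j)) h1
    simp only [Nat.testBit_and, testBit_msk', hij] at h2
    simpa using h2

def PT (i j : Fin 5) : Bool := decide (i < j)
def PV1 (i j : Fin 5) : Bool := decide (i ≤ 1) && decide (2 ≤ j)
def PV2 (i j : Fin 5) : Bool := decide (i ≤ 2) && decide (3 ≤ j)
def PQ (i j : Fin 5) : Bool := (decide (i = 0) && decide (1 ≤ j)) || (decide (j = 4) && decide (i ≤ 3))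
def PR1 (i j : Fin 5) : Bool := decide (i = 0) && decide (1 ≤ j)
def PR2 (i j : Fin 5) : Bool := decide (i ≤ 3) && decide (j = 4)
def PJ (i j : Fin 5) : Bool := (decide (i ≤ 1) && decide (2 ≤ j)) || (decide (i ≤ 2) && decide (3 ≤ j))
def PF (i j : Fin 5) : Bool := decide (i ≤ 1) && decide (3 ≤ j)

/-- the unitriangular group -/
def T0 : Subgroup L5 := pat PT (by decide)
def V1 : Subgroup L5 := pat PV1 (by decide)
def V2 : Subgroup L5 := pat PV2 (by decide)
/-- `O_2(CC)`: row `0` and column `4` -/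
def QQ : Subgroup L5 := pat PQ (by decide)
/-- row `0` -/
def R1 : Subgroup L5 := pat PR1 (by decide)
/-- column `4` -/
def R2 : Subgroup L5 := pat PR2 (by decide)
/-- `V1 V2` -/
def JJ : Subgroup L5 := pat PJ (by decide)
/-- `V1 ∩ V2` -/
def FF : Subgroup L5 := pat PF (by decide)

theorem V1_le_T0 : V1 ≤ T0 := pat_mono _ _ (by decide)
theorem V2_le_T0 : V2 ≤ T0 := pat_mono _ _ (by decide)
theorem QQ_le_T0 : QQ ≤ T0 := pat_mono _ _ (by decide)
theorem JJ_le_T0 : JJ ≤ T0 := pat_mono _ _ (by decide)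
theorem R1_le_QQ : R1 ≤ QQ := pat_mono _ _ (by decide)
theorem R2_le_QQ : R2 ≤ QQ := pat_mono _ _ (by decide)
theorem V1_le_JJ : V1 ≤ JJ := pat_mono _ _ (by decide)
theorem V2_le_JJ : V2 ≤ JJ := pat_mono _ _ (by decide)
theorem FF_le_V1 : FF ≤ V1 := pat_mono _ _ (by decide)
theorem FF_le_V2 : FF ≤ V2 := pat_mono _ _ (by decide)

end Cfsg.Agent.SporadicRecognition.HeldModel
end

-- part: SporadicRecognition/HeldHyp
section
/-!
# The standing hypothesis `Hyp z ι` : `ι : CC →* G` is injective with image `C_G(z)`, `ι zz = z`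
-/

set_option autoImplicit false

namespace Cfsg.Agent.SporadicRecognition.HeldModel

open Matrix Cfsg.Agent.Lib.F2Mat

def PC (i j : Fin 5) : Bool := decide (j ≠ 0) && decide (i ≠ 4)

theorem entry_zero_col {g : L5} (h : ∀ i : Fin 5, i ≠ 0 →
    (g : Matrix (Fin 5) (Fin 5) (ZMod 2)) i 0 = 0) :
    (g : Matrix (Fin 5) (Fin 5) (ZMod 2)) 0 0 = 1 := by
  rcases zmod2_cases ((g : Matrix (Fin 5) (Fin 5) (ZMod 2)) 0 0) with h0 | h0
  · exfalso
    have h1 : (g : Matrix (Fin 5) (Fin 5) (ZMod 2)).det = 0 :=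
      Matrix.det_eq_zero_of_column_eq_zero 0 (by
        intro i
        by_cases hi : i = 0
        · rw [hi, h0]
        · exact h i hi)
    have h2 : (g : Matrix (Fin 5) (Fin 5) (ZMod 2)).det = 1 := g.2
    rw [h1] at h2
    exact absurd h2 (by decide)
  · exact h0

theorem coe_zz : (zz : Matrix (Fin 5) (Fin 5) (ZMod 2)) = transvection 0 4 1 := rfl

theorem mem_CC_iff_pat {g : L5} : g ∈ CC ↔ Pat PC g := by
  have hl : ∀ i j, ((g * zz : L5) : Matrix (Fin 5) (Fin 5) (ZMod 2)) i j =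
      (g : Matrix (Fin 5) (Fin 5) (ZMod 2)) i j +
        if j = 4 then (g : Matrix (Fin 5) (Fin 5) (ZMod 2)) i 0 else 0 := by
    intro i j
    have e0 : ((g * zz : L5) : Matrix (Fin 5) (Fin 5) (ZMod 2)) =
      (g : Matrix (Fin 5) (Fin 5) (ZMod 2)) * (zz : Matrix (Fin 5) (Fin 5) (ZMod 2)) := rfl
    rw [e0, coe_zz, transvection, mul_add, mul_one, Matrix.add_apply]
    congr 1
    by_cases hj : j = 4
    · rw [if_pos hj, hj]; simp
    · rw [if_neg hj, Matrix.mul_single_apply_of_ne]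
      exact hj
  have hr : ∀ i j, ((zz * g : L5) : Matrix (Fin 5) (Fin 5) (ZMod 2)) i j =
      (g : Matrix (Fin 5) (Fin 5) (ZMod 2)) i j +
        if i = 0 then (g : Matrix (Fin 5) (Fin 5) (ZMod 2)) 4 j else 0 := by
    intro i j
    have e0 : ((zz * g : L5) : Matrix (Fin 5) (Fin 5) (ZMod 2)) =
      (zz : Matrix (Fin 5) (Fin 5) (ZMod 2)) * (g : Matrix (Fin 5) (Fin 5) (ZMod 2)) := rfl
    rw [e0, coe_zz, transvection, add_mul, one_mul, Matrix.add_apply]
    congr 1
    by_cases hi : i = 0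
    · rw [if_pos hi, hi]; simp
    · rw [if_neg hi, Matrix.single_mul_apply_of_ne]
      exact hi
  have h11 : ∀ i, (1 : Matrix (Fin 5) (Fin 5) (ZMod 2)) i i = 1 := fun i => Matrix.one_apply_eq i
  rw [mem_CC]
  constructor
  · intro h
    have hc : ∀ i j, (if j = 4 then (g : Matrix (Fin 5) (Fin 5) (ZMod 2)) i 0 else 0) =
        if i = 0 then (g : Matrix (Fin 5) (Fin 5) (ZMod 2)) 4 j else 0 := by
      intro i j
      have : ((g * zz : L5) : Matrix (Fin 5) (Fin 5) (ZMod 2)) i j =
          ((zz * g : L5) : Matrix (Fin 5) (Fin 5) (ZMod 2)) i j := by rw [h]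
      rw [hl, hr] at this
      exact add_left_cancel this
    have c0 : ∀ i : Fin 5, i ≠ 0 → (g : Matrix (Fin 5) (Fin 5) (ZMod 2)) i 0 = 0 := by
      intro i hi
      have := hc i 4
      rw [if_pos rfl, if_neg hi] at this
      exact this
    have r4 : ∀ j : Fin 5, j ≠ 4 → (g : Matrix (Fin 5) (Fin 5) (ZMod 2)) 4 j = 0 := by
      intro j hj
      have := hc 0 j
      rw [if_pos rfl, if_neg hj] at this
      exact this.symm
    have c00 := entry_zero_col c0
    have r44 : (g : Matrix (Fin 5) (Fin 5) (ZMod 2)) 4 4 = 1 := by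
      have := hc 0 4
      rw [if_pos rfl, if_pos rfl, c00] at this
      exact this.symm
    intro i j hij
    rw [Matrix.sub_apply]
    by_cases hj : j = 0
    · subst hj
      by_cases hi : i = 0
      · subst hi; rw [c00, h11, sub_self]
      · rw [c0 i hi, Matrix.one_apply_ne hi, sub_self]
    · by_cases hi : i = 4
      · subst hi
        by_cases hj4 : j = 4
        · subst hj4; rw [r44, h11, sub_self]
        · rw [r4 j hj4, Matrix.one_apply_ne (Ne.symm hj4), sub_self]
      · exfalso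
        simp [PC, hi, hj] at hij
  · intro h
    have c0 : ∀ i : Fin 5, (g : Matrix (Fin 5) (Fin 5) (ZMod 2)) i 0 =
        (1 : Matrix (Fin 5) (Fin 5) (ZMod 2)) i 0 := by
      intro i
      have := h i 0 (by simp [PC])
      rwa [Matrix.sub_apply, sub_eq_zero] at this
    have r4 : ∀ j : Fin 5, (g : Matrix (Fin 5) (Fin 5) (ZMod 2)) 4 j =
        (1 : Matrix (Fin 5) (Fin 5) (ZMod 2)) 4 j := by
      intro j
      have := h 4 j (by simp [PC])
      rwa [Matrix.sub_apply, sub_eq_zero] at this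
    apply Subtype.ext
    ext i j
    rw [hl, hr, c0, r4]
    congr 1
    revert i j; decide

theorem tr_PC : Tr PC := by decide

theorem CC_eq : CC = pat PC tr_PC := by
  ext g
  rw [mem_CC_iff_pat, mem_pat]

theorem T0_le_CC : T0 ≤ CC := by
  rw [CC_eq]; exact pat_mono _ _ (by decide)

theorem V1_le_CC : V1 ≤ CC := V1_le_T0.trans T0_le_CC
theorem V2_le_CC : V2 ≤ CC := V2_le_T0.trans T0_le_CC
theorem QQ_le_CC : QQ ≤ CC := QQ_le_T0.trans T0_le_CC

theorem zz_mem_CC : zz ∈ CC := by rw [mem_CC]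

/-- `zz` as an element of the model -/
def zC : CC := ⟨zz, zz_mem_CC⟩

/-- The standing hypothesis: `ι` identifies the model with the centraliser of `z` in `G`. -/
structure Hyp {G : Type*} [Group G] (z : G) (ι : CC →* G) : Prop where
  inj : Function.Injective ι
  range : ι.range = Subgroup.centralizer ({z} : Set G)
  map_zz : ι zC = z

/-! ### From the hypotheses of the statements -/

/-- the permutation matrix of `(1 4)` -/
def sw : L5 := mk 2363905 2363905 (by decide +kernel)

theorem cd_sw : cd sw = 2363905 := cd_mk _ (by decide +kernel)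

theorem s_eq {s : L5} (hs : (s : Matrix (Fin 5) (Fin 5) (ZMod 2)) = transvection 0 1 1) :
    s = x 0 1 := Subtype.ext hs

theorem sw_conj {s : L5} (hs : (s : Matrix (Fin 5) (Fin 5) (ZMod 2)) = transvection 0 1 1) :
    sw * s * sw⁻¹ = zz := by
  rw [s_eq hs, mul_inv_eq_iff_eq_mul]
  apply cd_inj
  rw [cd_mul, cd_mul, cd_zz, cd_sw, cd_x]
  decide +kernel

theorem conj_mem {s : L5} (hs : (s : Matrix (Fin 5) (Fin 5) (ZMod 2)) = transvection 0 1 1)
    (u : CC) : sw⁻¹ * (u : L5) * sw ∈ Subgroup.centralizer ({s} : Set L5) := by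
  rw [Subgroup.mem_centralizer_singleton_iff]
  have h1 := mem_CC.1 u.2
  rw [← sw_conj hs] at h1
  have h2 : sw⁻¹ * ((u : L5) * (sw * s * sw⁻¹)) * sw =
      sw⁻¹ * (sw * s * sw⁻¹ * (u : L5)) * sw := by rw [h1]
  calc sw⁻¹ * (u : L5) * sw * s = sw⁻¹ * ((u : L5) * (sw * s * sw⁻¹)) * sw := by group
    _ = sw⁻¹ * (sw * s * sw⁻¹ * (u : L5)) * sw := h2
    _ = s * (sw⁻¹ * (u : L5) * sw) := by group

/-- the isomorphism of the model onto the centraliser of `s` -/
def toCs {s : L5} (hs : (s : Matrix (Fin 5) (Fin 5) (ZMod 2)) = transvection 0 1 1) :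
    CC →* Subgroup.centralizer ({s} : Set L5) where
  toFun u := ⟨sw⁻¹ * (u : L5) * sw, conj_mem hs u⟩
  map_one' := Subtype.ext (by simp)
  map_mul' := fun u v => Subtype.ext (by
    show sw⁻¹ * ((u * v : CC) : L5) * sw = (sw⁻¹ * (u : L5) * sw) * (sw⁻¹ * (v : L5) * sw)
    rw [Subgroup.coe_mul]; group)

theorem toCs_inj {s : L5} (hs : (s : Matrix (Fin 5) (Fin 5) (ZMod 2)) = transvection 0 1 1) :
    Function.Injective (toCs hs) := by
  intro u v h
  have h1 : sw⁻¹ * (u : L5) * sw = sw⁻¹ * (v : L5) * sw := congrArg Subtype.val h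
  exact Subtype.ext (mul_left_cancel (mul_right_cancel h1))

theorem toCs_surj {s : L5} (hs : (s : Matrix (Fin 5) (Fin 5) (ZMod 2)) = transvection 0 1 1) :
    Function.Surjective (toCs hs) := by
  rintro ⟨y, hy⟩
  rw [Subgroup.mem_centralizer_singleton_iff] at hy
  refine ⟨⟨sw * y * sw⁻¹, ?_⟩, ?_⟩
  · rw [mem_CC, ← sw_conj hs]
    calc sw * y * sw⁻¹ * (sw * s * sw⁻¹) = sw * (y * s) * sw⁻¹ := by group
      _ = sw * (s * y) * sw⁻¹ := by rw [hy]
      _ = _ := by group
  · apply Subtype.ext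
    show sw⁻¹ * (sw * y * sw⁻¹) * sw = y
    group

theorem exists_hyp {G : Type*} [Group G] (s : L5)
    (hs : (s : Matrix (Fin 5) (Fin 5) (ZMod 2)) = transvection 0 1 1) (z : G)
    (hz : orderOf z = 2) (e : (Subgroup.centralizer ({z} : Set G)) ≃*
      Subgroup.centralizer ({s} : Set L5)) :
    ∃ ι : CC →* G, Hyp z ι ∧ ∀ u : CC, ∃ h : ι u ∈ Subgroup.centralizer ({z} : Set G),
      (⟨ι u, h⟩ : Subgroup.centralizer ({z} : Set G)) = e.symm (toCs hs u) := by
  have hzC : z ∈ Subgroup.centralizer ({z} : Set G) := by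
    rw [Subgroup.mem_centralizer_singleton_iff]
  have hmap := TransvectionCentralizer.map_z hs z hz e hzC
  refine ⟨((Subgroup.centralizer ({z} : Set G)).subtype.comp e.symm.toMonoidHom).comp (toCs hs),
    ⟨?_, ?_, ?_⟩, ?_⟩
  · intro u v h
    have h1 : e.symm (toCs hs u) = e.symm (toCs hs v) := Subtype.ext h
    exact toCs_inj hs (e.symm.injective h1)
  · apply le_antisymm
    · rintro _ ⟨u, rfl⟩
      exact (e.symm (toCs hs u)).2
    · intro g hg
      obtain ⟨u, hu⟩ := toCs_surj hs (e ⟨g, hg⟩)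
      refine ⟨u, ?_⟩
      show ((e.symm (toCs hs u) : Subgroup.centralizer ({z} : Set G)) : G) = g
      rw [hu, MulEquiv.symm_apply_apply]
  · show ((e.symm (toCs hs zC) : Subgroup.centralizer ({z} : Set G)) : G) = z
    have h1 : toCs hs zC = e ⟨z, hzC⟩ := by
      apply Subtype.ext
      rw [hmap]
      show sw⁻¹ * zz * sw = s
      rw [← sw_conj hs]; group
    rw [h1, MulEquiv.symm_apply_apply]
  · intro u
    exact ⟨(e.symm (toCs hs u)).2, rfl⟩

/-! ### The graph automorphism -/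

/-- the permutation matrix of the reversal -/
def rv : L5 := mk 1118480 1118480 (by decide +kernel)

theorem cd_rv : cd rv = 1118480 := cd_mk _ (by decide +kernel)

/-- The entries of `tau g` are `tau g i j = g⁻¹ (4 - j) (4 - i)`. -/
def tau : L5 →* L5 where
  toFun g := rv * (g⁻¹).transpose * rv
  map_one' := by
    have h : rv * rv = 1 := by
      apply cd_inj; rw [cd_mul, cd_rv, cd_one]; decide +kernel
    have h1 : ((1 : L5)⁻¹).transpose = 1 := by
      apply Subtype.ext
      rw [inv_one]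
      show (1 : Matrix (Fin 5) (Fin 5) (ZMod 2))ᵀ = 1
      rw [Matrix.transpose_one]
    rw [h1, mul_one, h]
  map_mul' := by
    intro g k
    have h : rv * rv = 1 := by
      apply cd_inj; rw [cd_mul, cd_rv, cd_one]; decide +kernel
    have h1 : ((g * k)⁻¹).transpose = (g⁻¹).transpose * (k⁻¹).transpose := by
      apply Subtype.ext
      rw [_root_.mul_inv_rev]
      show ((k⁻¹ * g⁻¹ : L5) : Matrix (Fin 5) (Fin 5) (ZMod 2))ᵀ =
        ((g⁻¹ : L5) : Matrix (Fin 5) (Fin 5) (ZMod 2))ᵀ *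
          ((k⁻¹ : L5) : Matrix (Fin 5) (Fin 5) (ZMod 2))ᵀ
      rw [← Matrix.transpose_mul]; rfl
    rw [h1]
    calc rv * ((g⁻¹).transpose * (k⁻¹).transpose) * rv
        = rv * (g⁻¹).transpose * (1 : L5) * (k⁻¹).transpose * rv := by group
      _ = rv * (g⁻¹).transpose * (rv * rv) * (k⁻¹).transpose * rv := by rw [h]
      _ = _ := by group

theorem rv_apply (i j : Fin 5) : (rv : Matrix (Fin 5) (Fin 5) (ZMod 2)) i j =
    if j = i.rev then 1 else 0 := by
  have h : ∀ i j : Fin 5, (1118480 : ℕ).testBit (5 * i + j) = decide (j = i.rev) := by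
    decide +kernel
  show toMat 5 1118480 i j = _
  rw [toMat_apply, h]
  by_cases h1 : j = i.rev
  · rw [if_pos h1, decide_eq_true h1]; rfl
  · rw [if_neg h1, decide_eq_false h1]; rfl

theorem tau_apply (g : L5) (i j : Fin 5) : (tau g : Matrix (Fin 5) (Fin 5) (ZMod 2)) i j =
    ((g⁻¹ : L5) : Matrix (Fin 5) (Fin 5) (ZMod 2)) j.rev i.rev := by
  have e0 : (tau g : Matrix (Fin 5) (Fin 5) (ZMod 2)) =
      (rv : Matrix (Fin 5) (Fin 5) (ZMod 2)) * ((g⁻¹ : L5) : Matrix (Fin 5) (Fin 5) (ZMod 2))ᵀ *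
        (rv : Matrix (Fin 5) (Fin 5) (ZMod 2)) := rfl
  rw [e0, Matrix.mul_apply]
  have h2 : ∀ k, (rv : Matrix (Fin 5) (Fin 5) (ZMod 2)) k j = if k = j.rev then 1 else 0 := by
    intro k
    rw [rv_apply]
    have : (j = k.rev) ↔ (k = j.rev) := by
      constructor
      · rintro rfl; exact (Fin.rev_rev k).symm
      · rintro rfl; exact (Fin.rev_rev j).symm
    simp only [this]
  rw [Finset.sum_eq_single j.rev]
  · rw [h2, if_pos rfl, mul_one, Matrix.mul_apply, Finset.sum_eq_single i.rev]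
    · rw [rv_apply, if_pos rfl, one_mul]; rfl
    · intro k _ hk
      rw [rv_apply, if_neg hk, zero_mul]
    · intro h; exact absurd (Finset.mem_univ _) h
  · intro k _ hk
    rw [h2, if_neg hk, mul_zero]
  · intro h; exact absurd (Finset.mem_univ _) h

theorem tau_tau (g : L5) : tau (tau g) = g := by
  apply Subtype.ext
  ext i j
  rw [tau_apply, ← map_inv, tau_apply, Fin.rev_rev, Fin.rev_rev, inv_inv]

theorem tau_inj : Function.Injective tau := fun g h e => by
  rw [← tau_tau g, ← tau_tau h, e]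

theorem tau_mem_pat {P P' : Fin 5 → Fin 5 → Bool} (hP : Tr P) (hP' : Tr P')
    (h : ∀ i j : Fin 5, P j.rev i.rev = true → P' i j = true) {g : L5} (hg : g ∈ pat P hP) :
    tau g ∈ pat P' hP' := by
  intro i j hij
  have h1 : P j.rev i.rev = false := by
    cases h2 : P j.rev i.rev with
    | false => rfl
    | true => rw [h i j h2] at hij; exact absurd hij (by decide)
  have h2 := (pat P hP).inv_mem hg j.rev i.rev h1
  rw [Matrix.sub_apply, tau_apply]
  rw [Matrix.sub_apply] at h2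
  rw [sub_eq_zero] at h2 ⊢
  rw [h2]
  rw [Matrix.one_apply, Matrix.one_apply]
  have h3 : (j.rev = i.rev) ↔ (i = j) :=
    ⟨fun e => (Fin.rev_injective e).symm, fun e => by rw [e]⟩
  simp only [h3]

theorem tau_mem_CC {g : L5} (hg : g ∈ CC) : tau g ∈ CC := by
  rw [CC_eq] at hg ⊢
  exact tau_mem_pat _ _ (by decide) hg

theorem tau_mem_T0 {g : L5} (hg : g ∈ T0) : tau g ∈ T0 := tau_mem_pat _ _ (by decide) hg
theorem tau_mem_V2 {g : L5} (hg : g ∈ V1) : tau g ∈ V2 := tau_mem_pat _ _ (by decide) hg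
theorem tau_mem_V1 {g : L5} (hg : g ∈ V2) : tau g ∈ V1 := tau_mem_pat _ _ (by decide) hg
theorem tau_mem_QQ {g : L5} (hg : g ∈ QQ) : tau g ∈ QQ := tau_mem_pat _ _ (by decide) hg
theorem tau_mem_JJ {g : L5} (hg : g ∈ JJ) : tau g ∈ JJ := tau_mem_pat _ _ (by decide) hg
theorem tau_mem_FF {g : L5} (hg : g ∈ FF) : tau g ∈ FF := tau_mem_pat _ _ (by decide) hg
theorem tau_mem_R2 {g : L5} (hg : g ∈ R1) : tau g ∈ R2 := tau_mem_pat _ _ (by decide) hg
theorem tau_mem_R1 {g : L5} (hg : g ∈ R2) : tau g ∈ R1 := tau_mem_pat _ _ (by decide) hg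

/-- The image of `1 + E_ij` is `1 + E_{4-j,4-i}`. -/
theorem tau_x (i j : Fin 5) (h : i ≠ j) : tau (x i j h) =
    x j.rev i.rev (fun e => h (Fin.rev_injective e).symm) := by
  have h1 : (x i j h)⁻¹ = x i j h := by
    rw [inv_eq_iff_mul_eq_one]
    apply cd_inj
    rw [cd_mul, cd_one, cd_x]
    revert i j; decide +kernel
  apply Subtype.ext
  ext k l
  rw [tau_apply, h1, coe_x, coe_x, transvection_apply', transvection_apply']
  have h3 : (l.rev = k.rev) ↔ (k = l) :=
    ⟨fun e => (Fin.rev_injective e).symm, fun e => by rw [e]⟩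
  have h4 : (i = l.rev ∧ j = k.rev) ↔ (j.rev = k ∧ i.rev = l) := by
    constructor
    · rintro ⟨rfl, rfl⟩; exact ⟨Fin.rev_rev _, Fin.rev_rev _⟩
    · rintro ⟨rfl, rfl⟩; exact ⟨(Fin.rev_rev _).symm, (Fin.rev_rev _).symm⟩
  simp only [h3, h4]

theorem tau_zz : tau zz = zz := tau_x 0 4 (by decide)

/-- the graph automorphism of the model -/
def tauC : CC →* CC where
  toFun u := ⟨tau u, tau_mem_CC u.2⟩
  map_one' := Subtype.ext (map_one tau)
  map_mul' := fun u v => Subtype.ext (map_mul tau (u : L5) (v : L5))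

theorem tauC_tauC (u : CC) : tauC (tauC u) = u := Subtype.ext (tau_tau u)

theorem Hyp.tau {G : Type*} [Group G] {z : G} {ι : CC →* G} (h : Hyp z ι) :
    Hyp z (ι.comp tauC) where
  inj := fun u v e => by
    have h1 := h.inj e
    rw [← tauC_tauC u, ← tauC_tauC v, h1]
  range := by
    rw [← h.range]
    apply le_antisymm
    · rintro _ ⟨u, rfl⟩
      exact ⟨tauC u, rfl⟩
    · rintro _ ⟨u, rfl⟩
      refine ⟨tauC u, ?_⟩
      show ι (tauC (tauC u)) = ι u
      rw [tauC_tauC]
  map_zz := by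
    show ι (tauC zC) = z
    have : tauC zC = zC := Subtype.ext tau_zz
    rw [this, h.map_zz]

end Cfsg.Agent.SporadicRecognition.HeldModel
end
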