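import Cfsg.Agent.SporadicRecognition.CosetCert
set_option linter.all false

/-!
Checks of the word tables of a coset certificate against a list of relators and subgroup words.
-/

set_option autoImplicit false
set_option linter.unusedSectionVars false
set_option linter.unusedVariables false

namespace Cfsg.Agent.SporadicRecognition.CosetCertHyp

open Cfsg.Agent.SporadicRecognition.CosetCert

/-- formal inverse of a word -/
def invw (inv : Nat → Nat) (w : List Nat) : List Nat := (w.map inv).reverse

/-- `s` is a rotation of `r` -/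
def isRot (r s : List Nat) : Bool :=
  Nat.beq r.length s.length && (List.range (r.length + 1)).any fun m => r.rotate m == s

/-- `s` is a rotation of a relator or of the inverse of a relator, with letters `< k` -/
def okRel (inv : Nat → Nat) (k : Nat) (rels : List (List Nat)) (s : List Nat) : Bool :=
  (s.all fun y => Nat.blt y k) && ([] :: rels).any fun r => isRot r s || isRot r (invw inv s)

def okWord (inv : Nat → Nat) (k : Nat) (rels : List (List Nat)) (x : Nat) (w : List Nat) : Bool :=
  Nat.ble x k && (w.all fun y => Nat.blt y k) &&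
    (if Nat.beq x k then okRel inv k rels w else okRel inv k rels (w ++ [inv x]))

def okSub (inv : Nat → Nat) (k : Nat) (subw : List (List Nat)) (x : Nat) (u v : List Nat) : Bool :=
  Nat.ble x k && (u.all fun y => Nat.blt y k) && (v.all fun y => Nat.blt y k) &&
    ([] :: subw).any fun s => s == (if Nat.beq x k then u ++ invw inv v else u ++ x :: invw inv v)

def WT.allB (f : Nat → List Nat → Bool) : WT → Bool
  | .L x w => f x w
  | .N _ l r => WT.allB f l && WT.allB f r

def ST.allB (f : Nat → List Nat → List Nat → Bool) : ST → Bool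
  | .L x u v => f x u v
  | .N _ l r => ST.allB f l && ST.allB f r

def checkHyp (C : Cert) (rels subw : List (List Nat)) : Bool :=
  WT.allB (okWord C.inv C.k rels) C.words && ST.allB (okSub C.inv C.k subw) C.subs && Nat.blt 0 C.N

variable {G : Type*} [Group G] (H : Subgroup G) (g : Nat → G)

theorem WT_all_of_allB {f : Nat → List Nat → Bool} {P : Nat → List Nat → Prop}
    (hfP : ∀ x w, f x w = true → P x w) {T : WT} (h : WT.allB f T = true) : T.All P := by
  induction T with
  | L x w => exact hfP x w h
  | N m l r ihl ihr =>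
    have h' : (WT.allB f l && WT.allB f r) = true := h
    rw [Bool.and_eq_true] at h'
    exact ⟨ihl h'.1, ihr h'.2⟩

theorem ST_all_of_allB {f : Nat → List Nat → List Nat → Bool} {P : Nat → List Nat → List Nat → Prop}
    (hfP : ∀ x u v, f x u v = true → P x u v) {T : ST} (h : ST.allB f T = true) : T.All P := by
  induction T with
  | L x u v => exact hfP x u v h
  | N m l r ihl ihr =>
    have h' : (ST.allB f l && ST.allB f r) = true := h
    rw [Bool.and_eq_true] at h'
    exact ⟨ihl h'.1, ihr h'.2⟩

theorem ev_invw (inv : Nat → Nat) (k : Nat) (hinv : ∀ x, x < k → inv x < k ∧ g x * g (inv x) = 1)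
    (w : List Nat) (hw : ∀ y ∈ w, y < k) : ev g (invw inv w) = (ev g w)⁻¹ := by
  induction w with
  | nil => simp [invw, ev]
  | cons x w ih =>
    have h1 : g (inv x) = (g x)⁻¹ :=
      (inv_eq_of_mul_eq_one_right (hinv x (hw x (by simp))).2).symm
    have h2 := ih (fun y hy => hw y (by simp [hy]))
    have h3 : invw inv (x :: w) = invw inv w ++ [inv x] := by simp [invw]
    rw [h3, ev_append, h2, ev_cons, ev_cons, ev_nil, mul_one, h1, mul_inv_rev]

theorem ev_rotate_eq_one (r : List Nat) (m : Nat) (h : ev g r = 1) : ev g (r.rotate m) = 1 := by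
  rw [List.rotate_eq_drop_append_take_mod, ev_append]
  have h1 : ev g (r.take (m % r.length)) * ev g (r.drop (m % r.length)) = 1 := by
    rw [← ev_append, List.take_append_drop, h]
  exact mul_eq_one_comm.mp h1

theorem isRot_sound {r s : List Nat} (h : isRot r s = true) (hr : ev g r = 1) : ev g s = 1 := by
  unfold isRot at h
  rw [Bool.and_eq_true] at h
  obtain ⟨m, _, hm⟩ := List.any_eq_true.mp h.2
  have : r.rotate m = s := by simpa using hm
  rw [← this]
  exact ev_rotate_eq_one g r m hr

theorem all_lt {k : Nat} {w : List Nat} (h : (w.all fun y => Nat.blt y k) = true) : ∀ y ∈ w, y < k := by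
  intro y hy
  have := List.all_eq_true.mp h y hy
  exact Nat.le_of_ble_eq_true this

theorem okRel_sound {inv : Nat → Nat} {k : Nat} (hinv : ∀ x, x < k → inv x < k ∧ g x * g (inv x) = 1)
    {rels : List (List Nat)} (hrel : ∀ r ∈ rels, ev g r = 1) {s : List Nat}
    (h : okRel inv k rels s = true) : ev g s = 1 := by
  unfold okRel at h
  rw [Bool.and_eq_true] at h
  obtain ⟨h1, h2⟩ := h
  have h1 := all_lt h1
  obtain ⟨r, hr', h3⟩ := List.any_eq_true.mp h2
  have hr : ev g r = 1 := by
    rcases List.mem_cons.mp hr' with h | h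
    · rw [h, ev_nil]
    · exact hrel r h
  rw [Bool.or_eq_true] at h3
  rcases h3 with h3 | h3
  · exact isRot_sound g h3 hr
  · have := isRot_sound g h3 hr
    rw [ev_invw g inv k hinv s h1] at this
    exact inv_eq_one.mp this

theorem hyp_of_checks (C : Cert) (rels subw : List (List Nat)) (hk : g C.k = 1)
    (hinv : ∀ x, x < C.k → C.inv x < C.k ∧ g x * g (C.inv x) = 1)
    (hrel : ∀ r ∈ rels, ev g r = 1) (hsub : ∀ s ∈ subw, ev g s ∈ H)
    (hcheck : checkHyp C rels subw = true) : Hyp C H g := by
  unfold checkHyp at hcheck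
  rw [Bool.and_eq_true, Bool.and_eq_true] at hcheck
  obtain ⟨⟨h1, h2⟩, h3⟩ := hcheck
  refine ⟨hk, hinv, WT_all_of_allB ?_ h1, ST_all_of_allB ?_ h2, Nat.le_of_ble_eq_true h3⟩
  · intro x w h
    unfold okWord at h
    rw [Bool.and_eq_true, Bool.and_eq_true] at h
    obtain ⟨⟨h4, h5⟩, h6⟩ := h
    have h4 : x ≤ C.k := Nat.le_of_ble_eq_true h4
    have h5 := all_lt h5
    refine ⟨h4, fun y hy => (h5 y hy).le, ?_⟩
    by_cases hx : Nat.beq x C.k = true
    · rw [if_pos hx] at h6
      have hx' : x = C.k := Nat.eq_of_beq_eq_true hx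
      rw [hx', hk, okRel_sound g hinv hrel h6]
    · rw [if_neg hx] at h6
      have hx' : x < C.k := lt_of_le_of_ne h4 (fun h => hx (by rw [h]; exact Nat.beq_refl _))
      have h7 := okRel_sound g hinv hrel h6
      rw [ev_append, ev_cons, ev_nil, mul_one] at h7
      have h8 := (hinv x hx').2
      have h9 : g (C.inv x) = (g x)⁻¹ := (inv_eq_of_mul_eq_one_right h8).symm
      rw [h9] at h7
      exact (mul_inv_eq_one.mp h7).symm
  · intro x u v h
    unfold okSub at h
    rw [Bool.and_eq_true, Bool.and_eq_true, Bool.and_eq_true] at h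
    obtain ⟨⟨⟨h4, h5⟩, h5'⟩, h6⟩ := h
    have h4 : x ≤ C.k := Nat.le_of_ble_eq_true h4
    have h5 := all_lt h5
    have h5' := all_lt h5'
    refine ⟨h4, fun y hy => (h5 y hy).le, fun y hy => (h5' y hy).le, ?_⟩
    obtain ⟨s, hs, h7⟩ := List.any_eq_true.mp h6
    have h8 : s = (if Nat.beq x C.k then u ++ invw C.inv v else u ++ x :: invw C.inv v) := by
      simpa using h7
    have h9 : ev g s ∈ H := by
      rcases List.mem_cons.mp hs with h | h
      · rw [h, ev_nil]; exact H.one_mem
      · exact hsub s h
    by_cases hx : Nat.beq x C.k = true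
    · rw [if_pos hx] at h8
      have hx' : x = C.k := Nat.eq_of_beq_eq_true hx
      rw [h8, ev_append, ev_invw g C.inv C.k hinv v h5'] at h9
      rw [hx', hk, mul_one]; exact h9
    · rw [if_neg hx] at h8
      rw [h8, ev_append, ev_cons, ev_invw g C.inv C.k hinv v h5', ← mul_assoc] at h9
      exact h9

end Cfsg.Agent.SporadicRecognition.CosetCertHyp
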