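import Cfsg.Prelude.Def_Spor_Mathieu
import Cfsg.Prelude.Def_Spor_Conway
import Cfsg.Agent.S0378
import Cfsg.Agent.S0405
import Cfsg.Agent.S0430
import Cfsg.Agent.S1583
import Cfsg.Agent.S1584
import Cfsg.Agent.S1586
import Cfsg.Agent.SporadicStructure.SRGSteiner
import Cfsg.Agent.SporadicRecognition.HSRank_mg
set_option linter.all false

set_option autoImplicit false

/-!
Assembly of the recognition of the Higman–Sims group.
-/

namespace Cfsg.Agent.SporadicRecognition.HSAssemble

open MulAction Cfsg Cfsg.Agent.Leech.Co0Elts Cfsg.Agent.SporadicRecognition.RankThree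
  Cfsg.Agent.SporadicRecognition.TwoEmb Cfsg.Agent.SporadicRecognition.HSRank
  Cfsg.Agent.SporadicRecognition.HSParam Cfsg.Agent.SporadicRecognition.RankThreeOf

/-- the order of `M22`. -/
theorem card_M22 : Nat.card ↥Cfsg.Spor.M22 = 443520 := by
  have h := Cfsg.Agent.S0378.result (none : GolayPt) (some 0) (by simp)
  rw [← h]
  refine Nat.card_congr
    { toFun := fun g => ⟨⟨g.1, g.2.1.1⟩, g.2.1.2, g.2.2⟩
      invFun := fun g => ⟨g.1.1, ⟨g.1.2, g.2.1⟩, g.2.2⟩
      left_inv := fun _ => rfl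
      right_inv := fun _ => rfl }

/-- the automorphism group of an srg(100,22,0,6). -/
theorem card_aut {V : Type*} [Fintype V] {Γ : SimpleGraph V} [DecidableRel Γ.Adj]
    (h : Γ.IsSRGWith 100 22 0 6) : Nat.card (Γ ≃g Γ) = 88704000 := by
  classical
  have hV : 0 < Fintype.card V := by rw [h.card]; norm_num
  obtain ⟨x⟩ := Fintype.card_pos_iff.1 hV
  obtain ⟨B, hB, e, -⟩ := SporadicStructure.SRGSteiner.exists_steiner_of_srg h x
  have hx : Fintype.card (Γ.neighborSet x) = 22 := by
    rw [SimpleGraph.card_neighborSet_eq_degree, h.regular.degree_eq x]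
  rw [Nat.card_congr (conj e).toEquiv]
  exact Cfsg.Agent.S1586.result hx hB

/-- the graph of a rank three action with subdegrees 1, 22, 77. -/
theorem srg {G X : Type*} [Group G] [MulAction G X] [Fintype X] {a b c : X}
    (h : IsRankThree G a b c 22 77) [DecidableRel h.graph.Adj] : h.graph.IsSRGWith 100 22 0 6 := by
  have h1 := h.isSRG
  have h2 := param_hs h1
  rw [h2.1, h2.2] at h1
  exact h1

/-- A group of order 44352000 acting faithfully with rank 3 and subdegrees 1, 22, 77 is isomorphic to any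
simple such group. -/
theorem nonempty_of_rank {G X H Y : Type*} [Group G] [MulAction G X] [Fintype X] [FaithfulSMul G X] {a b c : X}
    (h : IsRankThree G a b c 22 77) [Group H] [MulAction H Y] [Fintype Y] [FaithfulSMul H Y] {a' b' c' : Y}
    (h' : IsRankThree H a' b' c' 22 77) (hG : Nat.card G = 44352000) (hH : Nat.card H = 44352000)
    (hs : IsSimpleGroup H) : Nonempty (G ≃* H) := by
  classical
  obtain ⟨e⟩ := Cfsg.Agent.S0430.result (srg h) (srg h')
  refine nonempty_mulEquiv (A := (h.graph ≃g h.graph)) (m := 44352000) (by norm_num) (toAut h) (toAut_injective h)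
    ((conj e).symm.toMonoidHom.comp (toAut h')) ?_ ?_ hG hH hs
  · exact (conj e).symm.injective.comp (toAut_injective h')
  · rw [card_aut (srg h)]

/-- The Higman–Sims group as a rank 3 group. -/
theorem hs_rank : ∃ (H Y : Type) (_ : Group H) (_ : MulAction H Y) (_ : Fintype Y) (_ : FaithfulSMul H Y)
    (a b c : Y), IsRankThree H a b c 22 77 ∧ Nat.card H = 44352000 ∧ IsSimpleGroup H ∧
      Nonempty (H ≃* ↥Cfsg.Spor.HS) := by
  classical
  obtain ⟨hs, hc⟩ := Cfsg.Agent.S0405.result _ _ norm_v norm_w dot_vw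
  obtain ⟨h1, h2⟩ := Cfsg.Agent.S1583.result _ _ norm_v norm_w dot_vw
  set v : ↥leechLattice := Spor.leechV with hv
  set w : ↥leechLattice := -(Spor.leechV + Spor.leechU') with hw
  set X : Set ↥leechLattice := {x : ↥leechLattice | sqNorm (x : GolayPt → ℤ) = 32 ∧
    dotInt (v : GolayPt → ℤ) (x : GolayPt → ℤ) = 24 ∧ dotInt (w : GolayPt → ℤ) (x : GolayPt → ℤ) = -24} with hXdef
  have hX : ∀ g ∈ K v w, ∀ x ∈ X, g • x ∈ X := by
    rintro g ⟨hgv, hgw⟩ x ⟨hx1, hx2, hx3⟩
    refine ⟨?_, ?_, ?_⟩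
    · rw [sqNorm_smul]; exact hx1
    · have := dotInt_smul g v x
      rw [show g • v = v from hgv] at this
      rw [this]; exact hx2
    · have := dotInt_smul g w x
      rw [show g • w = w from hgw] at this
      rw [this]; exact hx3
  obtain ⟨x0, hx0⟩ : X.Nonempty := by
    rw [Set.nonempty_iff_ne_empty]
    intro h
    rw [h, Set.ncard_empty] at h1
    norm_num at h1
  obtain ⟨h3, h4, h5⟩ := Cfsg.Agent.S1584.result v w x0 norm_v norm_w dot_vw hx0
  letI := act (K v w) X hX
  obtain ⟨b, c, hr⟩ := exists_isRankThree (K v w) X hX (k := 22) (l := 77) (by rw [h1]) (by norm_num) (by norm_num)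
    (by norm_num) ⟨x0, hx0⟩ (fun y => dotInt (x0 : GolayPt → ℤ) (y : GolayPt → ℤ) = 8)
    (by
      intro x hx x' hx'
      obtain ⟨g, hg1, hg2, hg3⟩ := h2 x hx x' hx'
      exact ⟨g, ⟨hg1, hg2⟩, hg3⟩)
    (by
      intro g hg hg0 y hy
      have := dotInt_smul g x0 y
      rw [show g • x0 = x0 from hg0] at this
      rw [this]; exact hy)
    (by
      intro h
      have h6 : dotInt (x0 : GolayPt → ℤ) (x0 : GolayPt → ℤ) = 32 := by
        rw [← hx0.1]
        exact Finset.sum_congr rfl fun i _ => (sq _).symm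
      have h7 : dotInt (x0 : GolayPt → ℤ) (x0 : GolayPt → ℤ) = 8 := h
      omega)
    h3 h4
    (by
      intro y hy y' hy' hne hne' h
      obtain ⟨g, hg1, hg2, hg3, hg4⟩ := h5 y hy y' hy' hne hne' h
      exact ⟨g, ⟨hg1, hg2⟩, hg3, hg4⟩)
  have hfinX : X.Finite := Set.finite_of_ncard_pos (by rw [h1]; norm_num)
  haveI : Finite ↥X := hfinX.to_subtype
  have hf : FaithfulSMul ↥(K v w) ↥X := by
    haveI := hr.trans
    obtain ⟨g, hg⟩ := exists_smul_eq ↥(K v w) (⟨x0, hx0⟩ : ↥X) b
    exact faithful_of_simple hs hg hr.ne_b.symm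
  exact ⟨↥(K v w), ↥X, inferInstance, act (K v w) X hX, Fintype.ofFinite _, hf, ⟨x0, hx0⟩, b, c, hr, hc, hs,
    ⟨hsEquiv.symm⟩⟩

end Cfsg.Agent.SporadicRecognition.HSAssemble
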